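import Groth.Agent.L21.CSA.SepSubfield
import Groth.Agent.L11.CSA.Skolem
import Mathlib.RingTheory.MvPolynomial.Homogeneous
import Mathlib.Algebra.MvPolynomial.Eval
import Mathlib.LinearAlgebra.Matrix.Determinant.Basic
import Mathlib.LinearAlgebra.Matrix.NonsingularInverse

/-!
The reduced norm form of a central division algebra, and its consequence for C₁ fields.
-/

set_option autoImplicit false
universe u v

open scoped TensorProduct
open MvPolynomial

namespace Groth.L21.CSA

variable (K : Type u) [Field K] (D : Type v) [DivisionRing D] [Algebra K D]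
  [Algebra.IsCentral K D] [FiniteDimensional K D]

/-- The reduced norm form: a form of degree `d` in `d ^ 2` variables without nontrivial zero. -/
theorem exists_reducedNorm_form :
    ∃ d : ℕ, 0 < d ∧ Module.finrank K D = d ^ 2 ∧
      ∃ P : MvPolynomial (Fin (Module.finrank K D)) K, P.IsHomogeneous d ∧
        ∀ a : Fin (Module.finrank K D) → K, eval a P = 0 → a = 0 := by
  classical
  obtain ⟨K', _, _, hfin, hgal, d, hd, ⟨f⟩⟩ := exists_galois_splitting K D
  have hN : Module.finrank K D = d ^ 2 := by
    have h := f.toLinearEquiv.finrank_eq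
    rw [Module.finrank_baseChange, Module.finrank_matrix, Module.finrank_self,
      Fintype.card_fin, mul_one, ← sq] at h
    exact h
  refine ⟨d, Nat.pos_of_ne_zero hd, hN, ?_⟩
  haveI : NeZero d := ⟨hd⟩
  let b := Module.finBasis K D
  let F : D → Matrix (Fin d) (Fin d) K' := fun x => f (1 ⊗ₜ[K] x)
  let M : Matrix (Fin d) (Fin d) (MvPolynomial (Fin (Module.finrank K D)) K') :=
    Matrix.of fun i j => ∑ l, C (F (b l) i j) * X l
  have hMh : M.det.IsHomogeneous d := by
    rw [Matrix.det_apply']
    refine IsHomogeneous.sum _ _ _ fun σ _ => ?_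
    have hp : (∏ i, M (σ i) i).IsHomogeneous d := by
      have := IsHomogeneous.prod Finset.univ (fun i => M (σ i) i) (fun _ => 1) fun i _ => by
        simp only [M, Matrix.of_apply]
        exact IsHomogeneous.sum _ _ _ fun l _ => (isHomogeneous_X _ l).C_mul _
      simpa using this
    have hc : ((Equiv.Perm.sign σ : ℤ) : MvPolynomial (Fin (Module.finrank K D)) K') =
        C ((Equiv.Perm.sign σ : ℤ) : K') := (map_intCast (C : K' →+* MvPolynomial (Fin (Module.finrank K D)) K') _).symm
    rw [hc]
    exact hp.C_mul _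
  -- Galois invariance
  have hinv : ∀ σ : K' ≃ₐ[K] K', MvPolynomial.map (σ.toRingEquiv.toRingHom) M.det = M.det := by
    intro σ
    let s : K' ⊗[K] D →ₐ[K] K' ⊗[K] D :=
      Algebra.TensorProduct.map σ.symm.toAlgHom (AlgHom.id K D)
    let ψ : Matrix (Fin d) (Fin d) K' →ₐ[K'] Matrix (Fin d) (Fin d) K' :=
      { ((σ.toRingEquiv.toRingHom).mapMatrix.comp
          ((f.toRingEquiv.toRingHom).comp (s.toRingHom.comp f.symm.toRingEquiv.toRingHom))) with
        commutes' := fun c => by
          show ((f (s (f.symm (algebraMap K' _ c)))).map σ) = _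
          rw [AlgEquiv.commutes]
          have : s (algebraMap K' (K' ⊗[K] D) c) = algebraMap K' (K' ⊗[K] D) (σ.symm c) := by
            simp [s, Algebra.TensorProduct.algebraMap_apply]
          rw [this, AlgEquiv.commutes]
          ext i j
          by_cases h : i = j <;> simp [Matrix.algebraMap_eq_diagonal, h] }
    have hψ : ∀ x, ψ (F x) = (F x).map σ := fun x => by
      show (f (s (f.symm (f (1 ⊗ₜ[K] x))))).map σ = _
      rw [f.symm_apply_apply]
      simp [s, F]
    obtain ⟨U, hU⟩ := Groth.L11.CSA.skolem_noether K' _ ψ (AlgHom.id K' _)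
    let Cm := (C : K' →+* MvPolynomial (Fin (Module.finrank K D)) K').mapMatrix (m := Fin d)
    have hMsum : M = ∑ l, (X l : MvPolynomial (Fin (Module.finrank K D)) K') • Cm (F (b l)) := by
      ext i j
      simp [M, Cm, Matrix.sum_apply, mul_comm]
    have hmap : M.map (MvPolynomial.map σ.toRingEquiv.toRingHom) =
        Cm (U : Matrix (Fin d) (Fin d) K') * M *
          Cm ((U⁻¹ : (Matrix (Fin d) (Fin d) K')ˣ) : Matrix (Fin d) (Fin d) K') := by
      have : M.map (MvPolynomial.map σ.toRingEquiv.toRingHom) =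
          ∑ l, (X l : MvPolynomial (Fin (Module.finrank K D)) K') • Cm ((F (b l)).map σ) := by
        ext i j
        simp [M, Cm, Matrix.sum_apply, map_sum, mul_comm]
      rw [this, hMsum, Finset.mul_sum, Finset.sum_mul]
      refine Finset.sum_congr rfl fun l _ => ?_
      rw [← hψ, hU, AlgHom.id_apply, map_mul, map_mul, Matrix.mul_smul, Matrix.smul_mul]
    rw [show MvPolynomial.map σ.toRingEquiv.toRingHom M.det =
        (M.map (MvPolynomial.map σ.toRingEquiv.toRingHom)).det from
        RingHom.map_det (MvPolynomial.map σ.toRingEquiv.toRingHom) M, hmap,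
      Matrix.det_mul, Matrix.det_mul, mul_comm (Cm _).det M.det, mul_assoc, ← Matrix.det_mul, ← map_mul,
      Units.mul_inv, map_one, Matrix.det_one, mul_one]
  obtain ⟨P, hP⟩ : M.det ∈ (MvPolynomial.map (algebraMap K K')).range := by
    rw [← SetLike.mem_coe, RingHom.coe_range, mem_range_map_iff_coeffs_subset]
    intro c hc
    rw [Finset.mem_coe, mem_coeffs_iff] at hc
    obtain ⟨m, -, rfl⟩ := hc
    refine (IsGalois.mem_range_algebraMap_iff_fixed (F := K) (E := K') _).mpr fun σ => ?_
    conv_rhs => rw [← hinv σ, coeff_map]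
    rfl
  refine ⟨P, IsHomogeneous.of_map (algebraMap K K').injective (by rw [hP]; exact hMh), fun a ha => ?_⟩
  have hev : eval (fun l => algebraMap K K' (a l)) M.det = 0 := by
    rw [← hP, eval_map]
    show eval₂ _ (algebraMap K K' ∘ a) P = 0
    rw [← eval₂_comp, ha, map_zero]
  have hMa : M.map (eval fun l => algebraMap K K' (a l)) = F (∑ l, a l • b l) := by
    have hFs : ∀ (c : K) (x : D), f (1 ⊗ₜ[K] (c • x)) = algebraMap K K' c • f (1 ⊗ₜ[K] x) := fun c x => by
      rw [TensorProduct.tmul_smul, ← algebraMap_smul K' c ((1 : K') ⊗ₜ[K] x), map_smul]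
    ext i j
    simp only [M, F, TensorProduct.tmul_sum, map_sum, hFs, Matrix.sum_apply, Matrix.map_apply,
      Matrix.of_apply, Matrix.smul_apply, smul_eq_mul, map_mul, eval_C, eval_X]
    exact Finset.sum_congr rfl fun l _ => mul_comm _ _
  rw [RingHom.map_det, RingHom.mapMatrix_apply, hMa] at hev
  by_contra hne
  have hx : (∑ l, a l • b l) ≠ 0 := fun h => hne (by
    funext l
    exact linearIndependent_iff'ₛ.mp b.linearIndependent Finset.univ a 0
      (by simpa using h) l (Finset.mem_univ l))
  have hu : IsUnit (F (∑ l, a l • b l)) :=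
    ((IsUnit.mk0 _ hx).map (Algebra.TensorProduct.includeRight : D →ₐ[K] K' ⊗[K] D)).map f
  exact ((Matrix.isUnit_iff_isUnit_det _).mp hu).ne_zero hev

/-- Over a C₁ field every central division algebra is trivial. -/
theorem finrank_eq_one_of_C1
    (hK : ∀ (n d : ℕ) (f : MvPolynomial (Fin n) K), f.IsHomogeneous d → 0 < d → d ^ 1 < n →
      ∃ a : Fin n → K, a ≠ 0 ∧ eval a f = 0) :
    Module.finrank K D = 1 := by
  obtain ⟨d, hd, hN, P, hP, hz⟩ := exists_reducedNorm_form K D
  by_contra hne
  have hd1 : 1 < d := by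
    rcases Nat.lt_or_ge 1 d with h | h
    · exact h
    · interval_cases d
      simp_all
  obtain ⟨a, ha, h0⟩ := hK _ d P hP hd (by rw [hN, pow_one]; nlinarith)
  exact ha (hz a h0)

end Groth.L21.CSA
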