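import Groth.Agent.L11.CSA.Split
import Groth.Agent.L11.CSA.Centralizer
import Groth.Agent.L11.CSA.BaseChange
import Mathlib.RingTheory.MatrixAlgebra

/-!
Splitting fields of central simple algebras: base change of matrix algebras, transitivity.
-/

set_option autoImplicit false
universe u v w x

open scoped TensorProduct

namespace Groth.L21.CSA

/-- Base change of a matrix algebra. -/
noncomputable def matrixBaseChange (R : Type u) [CommRing R] (S : Type v) [CommRing S] [Algebra R S]
    (n : Type w) [Fintype n] [DecidableEq n] :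
    S ⊗[R] Matrix n n R ≃ₐ[S] Matrix n n S :=
  AlgEquiv.ofRingEquiv (f := (matrixEquivTensor n R S).symm.toRingEquiv) fun s => by
    change (matrixEquivTensor n R S).symm (s ⊗ₜ[R] (1 : Matrix n n R)) = _
    rw [matrixEquivTensor_apply_symm, Matrix.map_one _ (map_zero _) (map_one _),
      Algebra.algebraMap_eq_smul_one]

/-- Cancelling a base change, for a not necessarily commutative algebra. -/
noncomputable def cancelEquiv (k : Type u) [CommRing k] (A : Type v) [Ring A] [Algebra k A]
    (k' : Type w) [CommRing k'] [Algebra k k'] (K : Type x) [CommRing K] [Algebra k K] [Algebra k' K]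
    [IsScalarTower k k' K] : K ⊗[k] A ≃ₐ[K] K ⊗[k'] (k' ⊗[k] A) :=
  AlgEquiv.ofLinearEquiv (TensorProduct.AlgebraTensorModule.cancelBaseChange k k' K K A).symm
    (by simp [Algebra.TensorProduct.one_def]) <|
      LinearMap.map_mul_of_map_mul_tmul (fun _ _ _ _ ↦ by simp)

/-- A split algebra stays split in any bigger field. -/
theorem splits_trans (k : Type u) [CommRing k] (A : Type v) [Ring A] [Algebra k A]
    (k' : Type w) [Field k'] [Algebra k k'] (K : Type x) [Field K] [Algebra k K] [Algebra k' K]
    [IsScalarTower k k' K]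
    (h : ∃ n : ℕ, n ≠ 0 ∧ Nonempty (k' ⊗[k] A ≃ₐ[k'] Matrix (Fin n) (Fin n) k')) :
    ∃ n : ℕ, n ≠ 0 ∧ Nonempty (K ⊗[k] A ≃ₐ[K] Matrix (Fin n) (Fin n) K) := by
  obtain ⟨n, hn, ⟨e⟩⟩ := h
  exact ⟨n, hn, ⟨((cancelEquiv k A k' K).trans
    (Algebra.TensorProduct.congr AlgEquiv.refl e)).trans (matrixBaseChange k' K (Fin n))⟩⟩

/-- If `D` splits over `L`, so does every matrix algebra over `D`. -/
noncomputable def matrixSplit (k : Type u) [CommRing k] (D : Type v) [Ring D] [Algebra k D]
    (L : Type w) [CommRing L] [Algebra k L] (n : ℕ) {d : ℕ}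
    (f : L ⊗[k] D ≃ₐ[L] Matrix (Fin d) (Fin d) L) :
    L ⊗[k] Matrix (Fin n) (Fin n) D ≃ₐ[L] Matrix (Fin (d * n)) (Fin (d * n)) L :=
  (Algebra.TensorProduct.congr (AlgEquiv.refl : L ≃ₐ[L] L) (matrixEquivTensor (Fin n) k D)).trans
    (Groth.L11.CSA.tensorSplit f (matrixBaseChange k L (Fin n)))

/-- The division algebra in a matrix presentation of a central algebra is central. -/
theorem isCentral_of_matrix (k : Type u) [Field k] {D : Type v} [Ring D] [Algebra k D]
    {A : Type w} [Ring A] [Algebra k A] [Algebra.IsCentral k A] {n : ℕ} [NeZero n]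
    (e : A ≃ₐ[k] Matrix (Fin n) (Fin n) D) : Algebra.IsCentral k D := ⟨fun x hx => by
  have : Matrix.scalar (Fin n) x ∈ Subalgebra.center k (Matrix (Fin n) (Fin n) D) :=
    Subalgebra.mem_center_iff.mpr fun M =>
      ((Matrix.scalar_commute x (fun y => (Subalgebra.mem_center_iff.mp hx y).symm) M).eq).symm
  have : e.symm (Matrix.scalar (Fin n) x) ∈ Subalgebra.center k A :=
    Subalgebra.mem_center_iff.mpr fun a => e.injective (by
      rw [map_mul, map_mul, e.apply_symm_apply, Subalgebra.mem_center_iff.mp this (e a)])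
  rw [Algebra.IsCentral.center_eq_bot, Algebra.mem_bot] at this
  obtain ⟨r, hr⟩ := this
  refine Algebra.mem_bot.mpr ⟨r, ?_⟩
  have := congrArg (fun z => e z 0 0) hr
  simpa [Matrix.algebraMap_eq_diagonal] using this⟩

/-- A splitting field has degree divisible by the degree of the division algebra. -/
theorem dvd_finrank_of_splits (k : Type u) [Field k] (D : Type v) [DivisionRing D] [Algebra k D]
    [FiniteDimensional k D] (d : ℕ) (hd : Module.finrank k D = d ^ 2)
    (k' : Type w) [Field k'] [Algebra k k'] [FiniteDimensional k k'] {n : ℕ}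
    (e : k' ⊗[k] D ≃ₐ[k'] Matrix (Fin n) (Fin n) k') : d ∣ Module.finrank k k' := by
  have hdn : d = n := by
    have h := e.toLinearEquiv.finrank_eq
    rw [Module.finrank_baseChange, hd, Module.finrank_matrix, Module.finrank_self,
      Fintype.card_fin, mul_one, ← sq] at h
    exact Nat.pow_left_injective (by norm_num) h
  subst hdn
  let f : D →ₐ[k] Module.End k' (Fin d → k') :=
    ((e.trans Matrix.toLinAlgEquiv').toAlgHom.restrictScalars k).comp
      Algebra.TensorProduct.includeRight
  letI : Module D (Fin d → k') := Module.compHom _ f.toRingHom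
  haveI : IsScalarTower k D (Fin d → k') := ⟨fun c x v => by
    change f (c • x) v = c • f x v
    rw [map_smul]; rfl⟩
  haveI : Module.Finite D (Fin d → k') := Module.Finite.of_restrictScalars_finite k D _
  have h := Module.finrank_mul_finrank k D (Fin d → k')
  rw [hd, ← Module.finrank_mul_finrank k k' (Fin d → k'), Module.finrank_pi, Fintype.card_fin] at h
  rcases Nat.eq_zero_or_pos d with rfl | hd0
  · have := Module.finrank_pos (R := k) (M := D)
    simp at hd; omega
  · refine ⟨Module.finrank D (Fin d → k'), Nat.eq_of_mul_eq_mul_right hd0 ?_⟩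
    rw [← h]; ring

end Groth.L21.CSA
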