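import Groth.Agent.L21.CSA.SplitBasic
import Mathlib.FieldTheory.JacobsonNoether
import Mathlib.RingTheory.LittleWedderburn
import Mathlib.RingTheory.IntegralClosure.IsIntegralClosure.Basic
import Mathlib.RingTheory.SimpleRing.Field
import Mathlib.FieldTheory.SeparableDegree
import Mathlib.FieldTheory.PurelyInseparable.Basic
import Mathlib.FieldTheory.SeparableClosure
import Mathlib.FieldTheory.Normal.Closure
import Mathlib.FieldTheory.Galois.Basic
import Mathlib.FieldTheory.PrimitiveElement
import Mathlib.FieldTheory.IsAlgClosed.AlgebraicClosure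

/-!
Separable maximal commutative subfields of a central division algebra, and separable splitting fields.
-/

set_option autoImplicit false
universe u v w

open scoped TensorProduct

namespace Groth.L21.CSA

variable (k : Type u) [Field k] (D : Type v) [DivisionRing D] [Algebra k D]

/-- Every finite central division algebra contains a commutative subalgebra that is separable over
`k` and is its own centralizer. -/
theorem exists_separable_self_centralizing [Algebra.IsCentral k D] [FiniteDimensional k D] :
    ∃ L : Subalgebra k D, (∀ x ∈ L, ∀ y ∈ L, x * y = y * x) ∧ Algebra.IsSeparable k L ∧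
      Subalgebra.centralizer k (L : Set D) = L := by
  classical
  -- a commutative separable subalgebra of maximal dimension
  let P : ℕ → Prop := fun n => ∃ L : Subalgebra k D, (∀ x ∈ L, ∀ y ∈ L, x * y = y * x) ∧
    Algebra.IsSeparable k L ∧ Module.finrank k L = n
  have hP0 : P 1 := ⟨⊥, fun x hx y _ => by
      obtain ⟨r, rfl⟩ := Algebra.mem_bot.mp hx
      exact Algebra.commutes r y,
    AlgEquiv.Algebra.isSeparable (Algebra.botEquiv k D).symm, Subalgebra.finrank_bot⟩
  have hbd : ∀ n, P n → n ≤ Module.finrank k D := fun n ⟨L, _, _, h⟩ => h ▸ L.toSubmodule.finrank_le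
  obtain ⟨L, hcomm, hsep, hdim⟩ : P (Nat.findGreatest P (Module.finrank k D)) :=
    Nat.findGreatest_spec (hbd 1 hP0) hP0
  refine ⟨L, hcomm, hsep, ?_⟩
  set C := Subalgebra.centralizer k (L : Set D) with hCdef
  have hLC : L ≤ C := fun x hx => (Subalgebra.mem_centralizer_iff k).mpr fun y hy => hcomm y hy x hx
  letI : CommRing L :=
    { (inferInstance : Ring L) with mul_comm := fun a b => Subtype.ext (hcomm a a.2 b b.2) }
  haveI : IsDomain L := Subalgebra.isDomain L
  have hf : IsField L :=
    (Algebra.IsIntegral.isField_iff_isField (R := k) (algebraMap k L).injective).mp (Field.toIsField k)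
  letI : Field L := hf.toField
  obtain ⟨hCs, hdimLC⟩ := Groth.L11.CSA.centralizer_simple k D L
  haveI := hCs
  obtain ⟨_, hdimC⟩ := Groth.L11.CSA.centralizer_simple k D C
  -- double centralizer
  have hLCC : L ≤ Subalgebra.centralizer k (C : Set D) := fun x hx =>
    (Subalgebra.mem_centralizer_iff k).mpr fun y hy =>
      ((Subalgebra.mem_centralizer_iff k).mp hy x hx).symm
  have hCC : Subalgebra.centralizer k (C : Set D) = L := by
    refine (Subalgebra.toSubmodule_injective (Submodule.eq_of_le_of_finrank_eq hLCC ?_)).symm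
    have hC0 : 0 < Module.finrank k C := Module.finrank_pos
    change Module.finrank k L = Module.finrank k (Subalgebra.centralizer k (C : Set D))
    exact Nat.eq_of_mul_eq_mul_left hC0 (by rw [← hdimC, hdimLC, mul_comm])
  by_contra hne
  haveI : IsDomain C := Subalgebra.isDomain C
  letI : DivisionRing C := divisionRingOfFiniteDimensional k C
  let ι : L →+* C := (Subalgebra.inclusion hLC).toRingHom
  letI : Algebra L C := ι.toAlgebra' fun l c => Subtype.ext
    ((Subalgebra.mem_centralizer_iff k).mp c.2 (l : D) l.2)
  haveI : IsScalarTower k L C := IsScalarTower.of_algebraMap_eq fun r => Subtype.ext rfl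
  haveI : FiniteDimensional L C := Module.Finite.of_restrictScalars_finite k L C
  haveI : Algebra.IsCentral L C := ⟨fun c hc => by
    have hc' : (c : D) ∈ Subalgebra.centralizer k (C : Set D) :=
      (Subalgebra.mem_centralizer_iff k).mpr fun y hy =>
        congrArg Subtype.val (Subalgebra.mem_center_iff.mp hc ⟨y, hy⟩)
    rw [hCC] at hc'
    exact Algebra.mem_bot.mpr ⟨⟨(c : D), hc'⟩, Subtype.ext rfl⟩⟩
  have hbot : (⊥ : Subalgebra L C) ≠ ⊤ := fun h => hne (le_antisymm (fun c hc => by
    have : (⟨c, hc⟩ : C) ∈ (⊥ : Subalgebra L C) := h ▸ trivial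
    obtain ⟨l, hl⟩ := Algebra.mem_bot.mp this
    have h2 : (l : D) = c := congrArg Subtype.val hl
    exact h2 ▸ l.2) hLC)
  obtain ⟨x, hx, hxsep⟩ := JacobsonNoether.exists_separable_and_not_isCentral' hbot
  -- the field `L(x)`
  let M : Subalgebra L C := Algebra.adjoin L {x}
  letI : CommRing M := Algebra.adjoinCommRingOfComm L (by
    rintro a (rfl : a = x) b (rfl : b = a); rfl)
  haveI : IsDomain M := Subalgebra.isDomain M
  have hMf : IsField M :=
    (Algebra.IsIntegral.isField_iff_isField (R := L) (algebraMap L M).injective).mp (Field.toIsField L)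
  letI : Field M := hMf.toField
  have hx' : IsSeparable L (⟨x, Algebra.self_mem_adjoin_singleton L x⟩ : M) := by
    rw [IsSeparable] at hxsep ⊢
    rwa [← minpoly.algHom_eq M.val Subtype.val_injective]
  have htop : IntermediateField.adjoin L {(⟨x, Algebra.self_mem_adjoin_singleton L x⟩ : M)} = ⊤ := by
    refine eq_top_iff.mpr fun z _ => ?_
    have hz : z ∈ Algebra.adjoin L {(⟨x, Algebra.self_mem_adjoin_singleton L x⟩ : M)} := by
      have h1 := AlgHom.map_adjoin M.val {(⟨x, Algebra.self_mem_adjoin_singleton L x⟩ : M)}
      rw [Set.image_singleton] at h1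
      obtain ⟨z', hz', hzz⟩ : (z : C) ∈ Subalgebra.map M.val
          (Algebra.adjoin L {(⟨x, Algebra.self_mem_adjoin_singleton L x⟩ : M)}) := by
        rw [h1]; exact z.2
      exact (Subtype.ext hzz : z' = z) ▸ hz'
    exact IntermediateField.algebra_adjoin_le_adjoin L _ hz
  haveI hsepM : Algebra.IsSeparable L M := by
    have := (IntermediateField.isSeparable_adjoin_simple_iff_isSeparable L M).mpr hx'
    rw [htop] at this
    exact AlgEquiv.Algebra.isSeparable (IntermediateField.topEquiv (F := L) (E := M))
  haveI : Algebra.IsSeparable k L := hsep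
  haveI : IsScalarTower k L M := IsScalarTower.of_algebraMap_eq fun r => Subtype.ext (IsScalarTower.algebraMap_apply k L C r)
  haveI : Algebra.IsSeparable k M := Algebra.IsSeparable.trans k L M
  let L' : Subalgebra k D := (M.restrictScalars k).map C.val
  have hL'comm : ∀ a ∈ L', ∀ b ∈ L', a * b = b * a := by
    rintro _ ⟨a, ha, rfl⟩ _ ⟨b, hb, rfl⟩
    simp only [← map_mul]
    exact congrArg C.val (congrArg Subtype.val (mul_comm (⟨a, ha⟩ : M) ⟨b, hb⟩))
  have hLL' : L ≤ L' := fun l hl =>
    ⟨algebraMap L C ⟨l, hl⟩, M.algebraMap_mem ⟨l, hl⟩, rfl⟩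
  let g : M →ₐ[k] D := C.val.comp (M.val.restrictScalars k)
  have hg : g.range = L' := by
    ext a
    exact ⟨fun ⟨m, hm⟩ => ⟨m, m.2, hm⟩, fun ⟨c, hc, h⟩ => ⟨⟨c, hc⟩, h⟩⟩
  have hginj : Function.Injective g := fun a b h => Subtype.ext (Subtype.ext h)
  haveI : Algebra.IsSeparable k L' :=
    hg ▸ AlgEquiv.Algebra.isSeparable (AlgEquiv.ofInjective g hginj)
  have hle : Module.finrank k L' ≤ Module.finrank k L := by
    rw [hdim]
    exact Nat.le_findGreatest L'.toSubmodule.finrank_le ⟨L', hL'comm, inferInstance, rfl⟩
  have heq : L = L' :=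
    Subalgebra.toSubmodule_injective (Submodule.eq_of_le_of_finrank_le hLL' hle)
  have hxL : (x : D) ∈ L := heq ▸ ⟨x, Algebra.self_mem_adjoin_singleton L x, rfl⟩
  exact hx (Algebra.mem_bot.mpr ⟨⟨x, hxL⟩, Subtype.ext rfl⟩)

/-- A self-centralizing commutative subalgebra of a central division algebra splits it. -/
theorem exists_algEquiv_matrix_of_self_centralizing [Algebra.IsCentral k D] [FiniteDimensional k D]
    (L : Subalgebra k D) (F : Type w) [Field F] [Algebra k F] (φ : F ≃ₐ[k] L)
    (hL : Subalgebra.centralizer k (L : Set D) = L) :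
    ∃ d : ℕ, d ≠ 0 ∧ Nonempty (F ⊗[k] D ≃ₐ[F] Matrix (Fin d) (Fin d) F) := by
  haveI : IsSimpleRing L := IsSimpleRing.of_ringEquiv φ.toRingEquiv inferInstance
  haveI : FiniteDimensional k F := Module.Finite.equiv φ.symm.toLinearEquiv
  have hdim := (Groth.L11.CSA.centralizer_simple k D L).2
  rw [hL] at hdim
  -- `D` as a vector space over `F`, by right multiplication
  let ψ : F →ₐ[k] Module.End k D :=
    { toFun := fun l => LinearMap.mulRight k ((φ l : L) : D)
      map_one' := by ext x; simp
      map_mul' := fun a b => by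
        ext x
        rw [mul_comm a b]
        simp [mul_assoc]
      map_zero' := by ext x; simp
      map_add' := fun a b => by ext x; simp [mul_add]
      commutes' := fun r => by
        ext x
        simp [Algebra.algebraMap_eq_smul_one] }
  letI : Module F D := Module.compHom D ψ.toRingHom
  haveI : IsScalarTower k F D := ⟨fun c l x => by
    change ψ (c • l) x = c • ψ l x
    rw [map_smul]; rfl⟩
  let ρ : D →ₐ[k] Module.End F D :=
    { toFun := fun a =>
        { toFun := fun x => a * x
          map_add' := mul_add a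
          map_smul' := fun l x => by
            change a * (x * ((φ l : L) : D)) = (a * x) * ((φ l : L) : D)
            rw [mul_assoc] }
      map_one' := by ext x; simp
      map_mul' := fun a b => by ext x; simp [mul_assoc]
      map_zero' := by ext x; simp
      map_add' := fun a b => by ext x; simp [add_mul]
      commutes' := fun r => by
        ext x
        rw [LinearMap.coe_mk, AddHom.coe_mk, ← Algebra.smul_def]
        rfl }
  let T : F ⊗[k] D →ₐ[F] Module.End F D :=
    Algebra.TensorProduct.lift (Algebra.ofId F _) ρ fun l a => Algebra.commutes l (ρ a)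
  have hTinj : Function.Injective T := RingHom.injective T.toRingHom
  haveI : FiniteDimensional F D := Module.Finite.of_restrictScalars_finite k F D
  have hFL : Module.finrank k F = Module.finrank k L := φ.toLinearEquiv.finrank_eq
  have hFD : Module.finrank F D = Module.finrank k F := by
    have h := Module.finrank_mul_finrank k F D
    rw [hdim, ← hFL] at h
    exact Nat.eq_of_mul_eq_mul_left Module.finrank_pos h
  have hTsurj : Function.Surjective T := by
    refine (LinearMap.injective_iff_surjective_of_finrank_eq_finrank (f := T.toLinearMap) ?_).mp hTinj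
    rw [Module.finrank_baseChange, Module.finrank_linearMap, hFD, hdim, ← hFL]
  exact ⟨Module.finrank F D, Module.finrank_pos.ne', ⟨(AlgEquiv.ofBijective T ⟨hTinj, hTsurj⟩).trans
    (algEquivMatrix (Module.finBasis F D))⟩⟩

/-- Every central simple algebra splits over a finite separable extension. -/
theorem exists_separable_splitting (A : Type v) [Ring A] [Algebra k A] [Algebra.IsCentral k A]
    [IsSimpleRing A] [FiniteDimensional k A] :
    ∃ (k' : Type u) (_ : Field k') (_ : Algebra k k'), FiniteDimensional k k' ∧
      Algebra.IsSeparable k k' ∧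
      ∃ n : ℕ, n ≠ 0 ∧ Nonempty (k' ⊗[k] A ≃ₐ[k'] Matrix (Fin n) (Fin n) k') := by
  have := Groth.L11.CSA.isArtinianRing_of_finite k A
  obtain ⟨n, hn, D, hD, hA, hDf, ⟨e⟩⟩ :=
    IsSimpleRing.exists_algEquiv_matrix_divisionRing_finite k A
  haveI := isCentral_of_matrix k e
  obtain ⟨L, hcomm, hsep, hL⟩ := exists_separable_self_centralizing k D
  letI : CommRing L :=
    { (inferInstance : Ring L) with mul_comm := fun a b => Subtype.ext (hcomm a a.2 b b.2) }
  haveI : IsDomain L := Subalgebra.isDomain L
  have hf : IsField L :=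
    (Algebra.IsIntegral.isField_iff_isField (R := k) (algebraMap k L).injective).mp (Field.toIsField k)
  letI : Field L := hf.toField
  obtain ⟨α, hα⟩ := Field.exists_primitive_element k L
  let φ : AdjoinRoot (minpoly k α) ≃ₐ[k] L :=
    ((IntermediateField.adjoinRootEquivAdjoin k (Algebra.IsIntegral.isIntegral α)).trans
      ((IntermediateField.equivOfEq hα).trans IntermediateField.topEquiv))
  haveI : Fact (Irreducible (minpoly k α)) := ⟨minpoly.irreducible (Algebra.IsIntegral.isIntegral α)⟩
  haveI : Algebra.IsSeparable k L := hsep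
  obtain ⟨d, hd, ⟨f⟩⟩ := exists_algEquiv_matrix_of_self_centralizing k D L (AdjoinRoot (minpoly k α)) φ hL
  exact ⟨AdjoinRoot (minpoly k α), inferInstance, inferInstance, Module.Finite.equiv φ.symm.toLinearEquiv,
    AlgEquiv.Algebra.isSeparable φ.symm, d * n, mul_ne_zero hd (NeZero.ne n),
    ⟨(Algebra.TensorProduct.congr AlgEquiv.refl e).trans (matrixSplit k D _ n f)⟩⟩

/-- Every central simple algebra splits over a finite Galois extension. -/
theorem exists_galois_splitting (A : Type v) [Ring A] [Algebra k A] [Algebra.IsCentral k A]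
    [IsSimpleRing A] [FiniteDimensional k A] :
    ∃ (k' : Type u) (_ : Field k') (_ : Algebra k k'), FiniteDimensional k k' ∧
      IsGalois k k' ∧
      ∃ n : ℕ, n ≠ 0 ∧ Nonempty (k' ⊗[k] A ≃ₐ[k'] Matrix (Fin n) (Fin n) k') := by
  obtain ⟨k', _, _, hfin, hsep, h⟩ := exists_separable_splitting k A
  let K := IntermediateField.normalClosure k k' (AlgebraicClosure k')
  haveI : Algebra.IsSeparable k K := by
    rw [← le_separableClosure_iff]
    refine normalClosure_le_iff.mpr fun f => ?_
    rw [le_separableClosure_iff]
    exact AlgEquiv.Algebra.isSeparable (AlgEquiv.ofInjectiveField f)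
  exact ⟨K, inferInstance, inferInstance, inferInstance, isGalois_iff.mpr ⟨inferInstance, inferInstance⟩,
    splits_trans k A k' _ h⟩

end Groth.L21.CSA
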